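import Cfsg.Agent.LocalLines.Tab.TableA

/-! # Derivations A, before the case distinction -/

set_option autoImplicit false
set_option maxRecDepth 100000
set_option maxHeartbeats 2000000

namespace Cfsg.Agent.LocalLines.Tab

/-- State 0. -/
def stA00 : St := ⟨0x1f, 0x1f000000000000000000000000000000000000000000000000000000000000001f000000000000000000000000000000000000000000000000000000000000001f000000000000000000000000000000000000000000000000000000000000001f000000000000000000000000000000000000000000000000000000000000001f, 0x0⟩

def opsA00_0 : List Step :=
  [.defn 3 4, .tr 3 2 4, .defn 2 9]

/-- State 1. -/
def stA01 : St := ⟨0x821f, 0x820400000000000000000000000000000000000000000000000000000000000000000000000000000000000000000000000000000000000000000000000000000000000000000000000000000000000000000000000000000000000000000000000000000000000000000000000000000000000000000000000000000000000000000000000000000000000000000000000000000000000000000000000000000000000000000000000000000000000000000000000000000000000000000000821c0000000000000000000000000000000000000000000000000000000000000000000000000000000000000000000000000000000000000000000000000000000000000000000000000000000000000000000000000000000000000000000000000000000000000000000000000000000000000000000000000000000000000000000000000000000000000000000000000000000000000000000000000000021f000000000000000000000000000000000000000000000000000000000000021f000000000000000000000000000000000000000000000000000000000000821f000000000000000000000000000000000000000000000000000000000000001f000000000000000000000000000000000000000000000000000000000000001f,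 0x20400000000000000000000000000000000000000000000000000000000000000000000000000000000000000000000000000000000000000000000000000000000000000000000000000000000000000000000000000000000000000000000000000000000000000000000000000000000000000000000000000000000000000000000000000000000000000000000000000000000000000000000000000000000000000000000000000000000000000000000000000000000000000000000801c000000000000000000000000000000000000000000000000000000000000000000000000000000000000000000000000000000000000000000000000000000000000000000000000000000000000000000000000000000000000000000000000000000000000000000000000000000000000000000000000000000000000000000000000000000000000000000000000000000000000000000000000000002080000000000000000000000000000000000000000000000000000000000000210000000000000000000000000000000000000000000000000000000000000820000000000000000000000000000000000000000000000000000000000000000000000000000000000000000000000000000000000000000000000000000000000⟩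

theorem runA01 :
    runAll tabA false (opsA00_0) stA00 =
      some stA01 := by
  decide +kernel

end Cfsg.Agent.LocalLines.Tab
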