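import Cfsg.Agent.LocalLines.Init

/-! # Isotropic vectors over the field with four elements -/

set_option autoImplicit false

namespace Cfsg.Agent.LocalLines.Tab

/-- The 45 isotropic points in dimension 4: normalised vectors, and the point of each vector. -/
def vecs4 : ℕ := 0xfd2f47d3b4ad1b4dd2745d034f92e4793a4a91a4d926459024f52d475394a5194d525455014310841130481104340901431084110d024050

/-- The point of each isotropic vector. -/
def idx4 : ℕ := 0x101e2c2d2414222d1a28182d2d2d2d00161b292d2a111f2d2025152d2d2d2d011321262d27171c2d1d2b122d2d2d2d022d2d2d032d2d2d042d2d2d05090a0b2d121d2b2d2613212d1c27172d2d2d2d02181a282d2c101e2d2224142d2d2d2d001520252d29161b2d1f2a112d2d2d2d012d2d2d052d2d2d032d2d2d040b090a2d111f2a2d2515202d1b29162d2d2d2d01171c272d2b121d2d2126132d2d2d2d021422242d28181a2d1e2c102d2d2d2d002d2d2d042d2d2d052d2d2d030a0b092d2d2d2d062d2d2d072d2d2d080c0d0e2d2d2d2d082d2d2d062d2d2d070e0c0d2d2d2d2d072d2d2d082d2d2d060d0e0c2d0f19232d230f192d19230f2d2d2d2d2d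

/-- The 165 isotropic points in dimension 5: normalised vectors, and the point of each vector. -/
def vecs5 : ℕ := 0xfd2f47dcf63d4f4ed2b46dcb62d4b4dd2745dc761d477cdb35cde368d6374d9354d034f92e479ce6394e4e92a469ca6294a4d926459c6619467c9b25c9e26896274992549024f52d475cd6354d4e529465c9625494d525455c5615457c5b15c5e16856174591545017f1bc5f1ec6b16c7719c5710c7e1b85e1e86a16876198561087d1b45d1e46916475194551044c120441c0601407f4bd1f4ed2b46d3749d1740d3e4b91e4e92a46936499164093d4b51d4e52946535495154050c421044c1204410d024050c42104434090140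

/-- The point of each isotropic vector. -/
def idx5 : ℕ := 0xa5a5a510a5a5a51ea5a5a52c344250a5a5a5a524a5a5a514a5a5a522483846a5a5a5a51aa5a5a528a5a5a5183e4c3ca5527292a58a5676a56e8e5aa5a5a5a500a5a5a516a5a5a51ba5a5a5293a3f4da5a5a5a52aa5a5a511a5a5a51f4e3543a5a5a5a520a5a5a525a5a5a515444939a5586f8fa5905373a5748b57a5a5a5a501a5a5a513a5a5a521a5a5a52637454aa5a5a5a527a5a5a517a5a5a51c4b3b40a5a5a5a51da5a5a52ba5a5a512414f36a555758ca58d5970a5719154a5a5a5a5025b7ea1a5936285a5779a69a5a5a5a50367789ba59f5c7fa5839463a5a5a5a504618495a5996879a57da05da5a5a5a505a5a5a509a5a5a50aa5a5a50b2d2e2fa5a5a5a512a5a5a51da5a5a52b36414fa5a5a5a526a5a5a513a5a5a5214a3745a5a5a5a51ca5a5a527a5a5a517404b3ba5547191a58c5575a5708d59a5a5a5a502a5a5a518a5a5a51aa5a5a5283c3e4ca5a5a5a52ca5a5a510a5a5a51e503442a5a5a5a522a5a5a524a5a5a514464838a55a6e8ea5925272a5768a56a5a5a5a500a5a5a515a5a5a520a5a5a525394449a5a5a5a529a5a5a516a5a5a51b4d3a3fa5a5a5a51f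a5a5a52aa5a5a511434e35a557748ba58f586fa5739053a5a5a5a5015d7da0a5956184a5799968a5a5a5a50569779aa5a15b7ea5859362a5a5a5a503638394a59b6778a57f9f5ca5a5a5a504a5a5a50ba5a5a509a5a5a50a2f2d2ea5a5a5a511a5a5a51fa5a5a52a35434ea5a5a5a525a5a5a515a5a5a520493944a5a5a5a51ba5a5a529a5a5a5163f4d3aa5537390a58b5774a56f8f58a5a5a5a501a5a5a517a5a5a51ca5a5a5273b404ba5a5a5a52ba5a5a512a5a5a51d4f3641a5a5a5a521a5a5a526a5a5a513454a37a559708da5915471a5758c55a5a5a5a502a5a5a514a5a5a522a5a5a524384648a5a5a5a528a5a5a518a5a5a51a4c3c3ea5a5a5a51ea5a5a52ca5a5a510425034a556768aa58e5a6ea5729252a5a5a5a5005c7f9fa5946383a5789b67a5a5a5a504687999a5a05d7da5849561a5a5a5a505628593a59a6977a57ea15ba5a5a5a503a5a5a50aa5a5a50ba5a5a5092e2f2da55e81a4a5966588a57a9d6ca5a5a5a5066a7b9ea5a25f82a5869766a5a5a5a507648798a59c6b7ca580a360a5a5a5a508a5a5a50ca5a5a50da5a5a50e303132a56080a3a5986487a57c9c6ba5a5a5a5086c7a9da5a45e81a5889665a5a5a5a506668697a59e6a7ba582a25fa5a5a5a507a5a5a50ea5a5a50ca5a5a50d323031a55f82a2a5976686a57b9e6aa5a5a5a5076b7c9ca5a36080a5879864a5a5a5a508658896a59d6c7aa581a45ea5a5a5a506a5a5a50da5a5a50ea5a5a50c313230a5a5a5a50fa5a5a519a5a5a523333d47a5a5a5a523a5a5a50fa5a5a51947333da5a5a5a519a5a5a523a5a5a50f3d4733a5516d89a589516da56d8951a5a5a5a5a5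

end Cfsg.Agent.LocalLines.Tab
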