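import Cfsg.Agent.LocalLines.Cert

/-! # Table A: twenty members -/

set_option autoImplicit false

namespace Cfsg.Agent.LocalLines.Tab

/-- Conjugates, row by row. -/
def kjA (a : ℕ) : ℕ :=
  if Nat.blt a 10 then
   if Nat.blt a 5 then
    if Nat.blt a 2 then
     if Nat.blt a 1 then
      0x130e0d0c0f121110070609080b0a010403020500
     else
      0x101211130f09080c0b0a0e0d0302000407060105
    else
     if Nat.blt a 3 then
      0x1312110b090e0d0710050f040c010a0803020600
     else
      if Nat.blt a 4 then
       0x1312110a080e0d060510040f010c0b0903020700
      else
       0x130b0a100f07060c121103020e0d050409080100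
   else
    if Nat.blt a 7 then
     if Nat.blt a 6 then
      0xc0908100f0e0d1303021211070605040b0a0001
     else
      0xb1211100e0f0403130009080706050d0c01020a
    else
     if Nat.blt a 8 then
      0xa1211100d040f02001309080706050e010c030b
     else
      if Nat.blt a 9 then
       0x13100512030c010e0b0a0908070611020f040d00
      else
       0x1305101102010c0d0b0a090807061203040f0e00
  else
   if Nat.blt a 15 then
    if Nat.blt a 12 then
     if Nat.blt a 11 then
      0x70f0403120e0d0c0b0a09081300021110050106
     else
      0x6040f02110e0d0c0b0a09080013031205100107
    else
     if Nat.blt a 13 then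
      0x51211000f08090c0b0a0d0e0203130406070110
     else
      if Nat.blt a 14 then
       0x12130010070e0d090b0a0c010f04050603020811
      else
       0x11001310060e0d080b0a010c040f050703020912
   else
    if Nat.blt a 17 then
     if Nat.blt a 16 then
      0x130a0b100f06070c111202030d0e050408090100
     else
      0x10809100f0e0d0002031112070605040a0b130c
    else
     if Nat.blt a 18 then
      0xe1211090b13000c0f0410050706080a0302010d
     else
      if Nat.blt a 19 then
       0xd1211080a00130c040f05100706090b0302010e
      else
       0x130d0e010f111205060709080a0b0c0403021000

/-- Commuting partners, row by row. -/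
def cmA (a : ℕ) : ℕ :=
  if Nat.blt a 10 then
   if Nat.blt a 5 then
    if Nat.blt a 2 then
     if Nat.blt a 1 then
      0x8831d
     else
      0x69c12
    else
     if Nat.blt a 3 then
      0xe600d
     else
      if Nat.blt a 4 then
       0xe600d
      else
       0x99033
   else
    if Nat.blt a 7 then
     if Nat.blt a 6 then
      0x1e0f0
     else
      0x703e0
    else
     if Nat.blt a 8 then
      0x703e0
     else
      if Nat.blt a 9 then
       0x80fc1
      else
       0x80fc1
  else
   if Nat.blt a 15 then
    if Nat.blt a 12 then
     if Nat.blt a 11 then
      0x7f02
     else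
      0x7f02
    else
     if Nat.blt a 13 then
      0x69c12
     else
      if Nat.blt a 14 then
       0x16c2c
      else
       0x16c2c
   else
    if Nat.blt a 17 then
     if Nat.blt a 16 then
      0x99033
     else
      0x1e0f0
    else
     if Nat.blt a 18 then
      0x610ce
     else
      if Nat.blt a 19 then
       0x610ce
      else
       0x8831d

/-- The table. -/
def tabA : Table := ⟨20, cmA, kjA⟩

end Cfsg.Agent.LocalLines.Tab
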