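import Cfsg.Agent.LocalLines.Cert

/-! # Table S: fifteen transpositions -/

set_option autoImplicit false

namespace Cfsg.Agent.LocalLines.Tab

/-- Conjugates, row by row. -/
def kjS (a : ℕ) : ℕ :=
  if Nat.blt a 7 then
   if Nat.blt a 3 then
    if Nat.blt a 1 then
     0xe0d0c0b0a09040302010807060500
    else
     if Nat.blt a 2 then
      0xe0d0c040302080706000b0a090105
     else
      0xe04030b0a01080700050d0c020906
   else
    if Nat.blt a 5 then
     if Nat.blt a 4 then
      0x40d020b0109080006050e030c0a07
     else
      0x3020c010a0900070605040e0d0b08
    else
     if Nat.blt a 6 then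
      0xe0d0c0807060b0a09050403020001
     else
      0xe08070b0a050d0c06090403000102
  else
   if Nat.blt a 11 then
    if Nat.blt a 9 then
     if Nat.blt a 8 then
      0x80d060b05090e070c0a0400020103
     else
      0x7060c050a09080e0d0b0003020104
    else
     if Nat.blt a 10 then
      0xe0b0a0d0c09080705060403010200
     else
      0xb0d090e0a0c080506070401020300
   else
    if Nat.blt a 13 then
     if Nat.blt a 12 then
      0xa090c0b0e0d050706080103020400
     else
      0xd0e0c0b090a080607050402030100
    else
     if Nat.blt a 14 then
      0xc0d0e090a0b060708050203040100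
     else
      0xe0c0d0a0b09070806050304020100

/-- Commuting partners, row by row. -/
def cmS (a : ℕ) : ℕ :=
  if Nat.blt a 7 then
   if Nat.blt a 3 then
    if Nat.blt a 1 then
     0x7e01
    else
     if Nat.blt a 2 then
      0x71c2
     else
      0x4da4
   else
    if Nat.blt a 5 then
     if Nat.blt a 4 then
      0x2b68
     else
      0x16f0
    else
     if Nat.blt a 6 then
      0x703c
     else
      0x4c5a
  else
   if Nat.blt a 11 then
    if Nat.blt a 9 then
     if Nat.blt a 8 then
      0x2a96
     else
      0x170e
    else
     if Nat.blt a 10 then
      0x4399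
     else
      0x2555
   else
    if Nat.blt a 13 then
     if Nat.blt a 12 then
      0x18cd
     else
      0x1933
    else
     if Nat.blt a 14 then
      0x24ab
     else
      0x4267

/-- The table. -/
def tabS : Table := ⟨15, cmS, kjS⟩

end Cfsg.Agent.LocalLines.Tab
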